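import Mathlib

/-! Torsion-free modules over one-dimensional local domains with finite normalisation: normal form. -/

open IsLocalRing Module
open scoped TensorProduct

namespace Groth.Agent.TFCurvNormLib

universe u

section Avoid

variable {O : Type u} [CommRing O] [IsLocalRing O] [Infinite (ResidueField O)]
  {M : Type u} [AddCommGroup M] [Module O M]

/-- Finitely many proper submodules containing `mM` do not cover `M`. -/
theorem exists_avoid {ι : Type u} [Finite ι] (W : ι → Submodule O M)
    (hle : ∀ i, maximalIdeal O • ⊤ ≤ W i) (hne : ∀ i, W i ≠ ⊤) : ∃ x, ∀ i, x ∉ W i := by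
  let V := M ⧸ (maximalIdeal O • ⊤ : Submodule O M)
  letI : Module (ResidueField O) V := (inferInstance : Module (O ⧸ maximalIdeal O) V)
  let p : ι → Subspace (ResidueField O) V := fun i =>
    { carrier := ((W i).map (Submodule.mkQ _) : Submodule O V)
      add_mem' := fun ha hb => add_mem ha hb
      zero_mem' := zero_mem _
      smul_mem' := fun c x hx => by
        obtain ⟨c, rfl⟩ := Ideal.Quotient.mk_surjective c
        exact Submodule.smul_mem ((W i).map (Submodule.mkQ _) : Submodule O V) c hx }
  by_contra hcov
  push Not at hcov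
  obtain ⟨i, hi⟩ := Subspace.exists_eq_top_of_iUnion_eq_univ (p := p) (Set.eq_univ_iff_forall.mpr fun v => by
    obtain ⟨x, rfl⟩ := Submodule.Quotient.mk_surjective _ v
    obtain ⟨i, hi⟩ := hcov x
    exact Set.mem_iUnion.mpr ⟨i, x, hi, rfl⟩)
  apply hne i
  refine eq_top_iff.mpr fun x _ => ?_
  obtain ⟨y, hy, hyx⟩ : Submodule.mkQ (maximalIdeal O • ⊤ : Submodule O M) x ∈ (W i).map (Submodule.mkQ _) := by
    show (Submodule.mkQ _ x : V) ∈ p i
    rw [hi]; trivial
  have := sub_mem hy (hle i ((Submodule.Quotient.eq _).mp hyx))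
  rwa [sub_sub_cancel] at this

end Avoid

variable {O : Type u} [CommRing O] [IsDomain O] [IsNoetherianRing O] [IsLocalRing O]
  {K : Type u} [Field K] [Algebra O K] [IsFractionRing O K]

theorem dimensionLEOne (hdim : ringKrullDim O = 1) : Ring.DimensionLEOne O := by
  haveI : Ring.KrullDimLE 1 O := Ring.krullDimLE_iff.mpr hdim.le
  refine ⟨fun {p} hne hp => ?_⟩
  have hle := IsLocalRing.le_maximalIdeal hp.ne_top
  rcases eq_or_lt_of_le hle with h | h
  · exact h ▸ maximalIdeal.isMaximal O
  · exfalso
    have h1 := Ideal.height_add_one_le_of_lt_of_isPrime h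
    haveI := hp
    haveI : (⊥ : Ideal O).IsPrime := Ideal.isPrime_bot
    have h2 := Ideal.height_add_one_le_of_lt_of_isPrime (bot_lt_iff_ne_bot.mpr hne)
    have h3 : ((maximalIdeal O).height : WithBot ℕ∞) = 1 := by
      rw [IsLocalRing.maximalIdeal_height_eq_ringKrullDim, hdim]
    have h4 : (maximalIdeal O).height = 1 := WithBot.coe_injective h3
    rw [h4] at h1
    have h5 : (1 : ℕ∞) + 1 ≤ 1 := le_trans (add_le_add_left (le_trans le_add_self h2) 1) h1
    exact absurd h5 (by decide)

theorem isFractionRing_normalization : IsFractionRing (integralClosure O K) K := by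
  exact integralClosure.isFractionRing_of_finite_extension K K

theorem isDedekindDomain_normalization [Module.Finite O (integralClosure O K)] (hdim : ringKrullDim O = 1) :
    IsDedekindDomain (integralClosure O K) := by
  haveI := dimensionLEOne hdim
  haveI : IsNoetherianRing (integralClosure O K) := IsNoetherianRing.of_finite O _
  haveI := isFractionRing_normalization (O := O) (K := K)
  haveI : IsIntegrallyClosed (integralClosure O K) :=
    (isIntegrallyClosed_iff K).mpr fun {x} hx => ⟨⟨x, isIntegral_trans x hx⟩, rfl⟩
  exact { }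

theorem finite_maximalSpectrum [Module.Finite O (integralClosure O K)] (hdim : ringKrullDim O = 1) :
    Finite (MaximalSpectrum (integralClosure O K)) := by
  haveI := isDedekindDomain_normalization (K := K) hdim
  let J : Ideal (integralClosure O K) := (maximalIdeal O).map (algebraMap O (integralClosure O K))
  have hne : maximalIdeal O ≠ ⊥ := fun h => by
    have h1 := IsLocalRing.maximalIdeal_height_eq_ringKrullDim (R := O)
    rw [h, hdim, Ideal.height_bot] at h1
    exact zero_ne_one (α := WithBot ℕ∞) h1
  have hJ : J ≠ ⊥ := fun h => hne (Ideal.map_eq_bot_iff_of_injective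
    (FaithfulSMul.algebraMap_injective O (integralClosure O K)) |>.mp h)
  haveI := (Ideal.finite_minimalPrimes_of_isNoetherianRing _ J).to_subtype
  refine Finite.of_injective (β := J.minimalPrimes) (fun P => ⟨P.asIdeal, ?_⟩) fun P Q h =>
    MaximalSpectrum.ext (congrArg Subtype.val h)
  haveI := P.isMaximal
  haveI : (P.asIdeal.comap (algebraMap O (integralClosure O K))).IsMaximal :=
    Ideal.isMaximal_comap_of_isIntegral_of_isMaximal P.asIdeal
  refine ⟨⟨inferInstance, Ideal.map_le_iff_le_comap.mpr (IsLocalRing.eq_maximalIdeal this).ge⟩,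
    fun Q hQ hle => ?_⟩
  have hQne : Q ≠ ⊥ := fun h => hJ (le_bot_iff.mp (h ▸ hQ.2))
  exact ((hQ.1.isMaximal hQne).eq_of_le P.isMaximal.ne_top hle).ge

theorem algebraMap_quotient_surjective [IsAlgClosed (ResidueField O)] [Module.Finite O (integralClosure O K)]
    (P : Ideal (integralClosure O K)) [P.IsMaximal] :
    Function.Surjective (algebraMap O (integralClosure O K ⧸ P)) := by
  haveI hmax : (P.comap (algebraMap O (integralClosure O K))).IsMaximal :=
    Ideal.isMaximal_comap_of_isIntegral_of_isMaximal P
  have hP : maximalIdeal O ≤ RingHom.ker (algebraMap O (integralClosure O K ⧸ P)) := by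
    intro a ha
    rw [RingHom.mem_ker, IsScalarTower.algebraMap_apply O (integralClosure O K) (integralClosure O K ⧸ P),
      Ideal.Quotient.algebraMap_eq, Ideal.Quotient.eq_zero_iff_mem]
    exact Ideal.mem_comap.mp ((IsLocalRing.eq_maximalIdeal hmax).ge ha)
  letI : Algebra (ResidueField O) (integralClosure O K ⧸ P) :=
    (Ideal.Quotient.lift (maximalIdeal O) (algebraMap O (integralClosure O K ⧸ P)) hP).toAlgebra
  haveI : IsScalarTower O (ResidueField O) (integralClosure O K ⧸ P) :=
    IsScalarTower.of_algebraMap_eq fun a => rfl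
  haveI : Module.Finite O (integralClosure O K ⧸ P) :=
    Module.Finite.of_surjective (Submodule.mkQ (P.restrictScalars O)) (Submodule.mkQ_surjective _)
  haveI : Module.Finite (ResidueField O) (integralClosure O K ⧸ P) :=
    Module.Finite.of_restrictScalars_finite O _ _
  letI : Field (integralClosure O K ⧸ P) := Ideal.Quotient.field P
  intro x
  obtain ⟨y, rfl⟩ := (IsAlgClosed.algebraMap_bijective_of_isIntegral (k := ResidueField O)
    (K := integralClosure O K ⧸ P)).2 x
  obtain ⟨y, rfl⟩ := Ideal.Quotient.mk_surjective y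
  exact ⟨y, rfl⟩

/-- Dimension bound for reductions of a lattice. -/
theorem finrank_quotient_le [Module.Finite O (integralClosure O K)] (hdim : ringKrullDim O = 1) (n : ℕ)
    (N : Submodule (integralClosure O K) (Fin n → K)) [Module.Finite (integralClosure O K) N]
    (P : Ideal (integralClosure O K)) [hP : P.IsMaximal] :
    Module.finrank (integralClosure O K ⧸ P) (N ⧸ (P • ⊤ : Submodule (integralClosure O K) N)) ≤ n := by
  classical
  haveI := isDedekindDomain_normalization (K := K) hdim
  haveI := isFractionRing_normalization (O := O) (K := K)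
  by_cases hbot : P = ⊥
  · exfalso
    subst hbot
    haveI := dimensionLEOne hdim
    have := Ideal.isMaximal_comap_of_isIntegral_of_isMaximal (R := O) (⊥ : Ideal (integralClosure O K))
    rw [Ideal.comap_bot_of_injective _ (FaithfulSMul.algebraMap_injective O (integralClosure O K))] at this
    have h1 := IsLocalRing.maximalIdeal_height_eq_ringKrullDim (R := O)
    rw [← IsLocalRing.eq_maximalIdeal this, hdim, Ideal.height_bot] at h1
    exact zero_ne_one (α := WithBot ℕ∞) h1
  letI : Field (integralClosure O K ⧸ P) := Ideal.Quotient.field P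
  by_contra hlt
  push Not at hlt
  haveI : Module.Finite (integralClosure O K ⧸ P) (N ⧸ (P • ⊤ : Submodule (integralClosure O K) N)) :=
    Module.Finite.of_restrictScalars_finite (integralClosure O K) _ _
  obtain ⟨v, hv⟩ := exists_linearIndependent_of_le_finrank (n := n + 1) hlt
  choose x hx using fun i => Submodule.Quotient.mk_surjective _ (v i)
  have hdep : ¬ LinearIndependent K (fun i => (x i : Fin n → K)) := fun h => by
    have := h.fintype_card_le_finrank
    simp at this
  obtain ⟨g, hg, i₀, hi₀⟩ := Fintype.not_linearIndependent_iff.mp hdep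
  obtain ⟨⟨d, hd⟩, hdint⟩ := IsLocalization.exist_integer_multiples_of_finite
    (nonZeroDivisors (integralClosure O K)) g
  choose c hc using hdint
  haveI : IsDiscreteValuationRing (Localization.AtPrime P) :=
    IsLocalization.AtPrime.isDiscreteValuationRing_of_dedekind_domain _ hbot _
  obtain ⟨j, -, hj⟩ : ∃ j ∈ Finset.univ, ∀ i ∈ Finset.univ,
      algebraMap _ (Localization.AtPrime P) (c j) ∣ algebraMap _ (Localization.AtPrime P) (c i) := by
    suffices ∀ s : Finset (Fin (n + 1)), s.Nonempty → ∃ j ∈ s, ∀ i ∈ s,
        algebraMap _ (Localization.AtPrime P) (c j) ∣ algebraMap _ (Localization.AtPrime P) (c i) from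
      this _ Finset.univ_nonempty
    intro s hs
    induction hs using Finset.Nonempty.cons_induction with
    | singleton a => exact ⟨a, by simp, by simp⟩
    | cons a s ha hs ih =>
      obtain ⟨j, hj, hjd⟩ := ih
      rcases ValuationRing.dvd_total (algebraMap _ (Localization.AtPrime P) (c a))
        (algebraMap _ (Localization.AtPrime P) (c j)) with h | h
      · refine ⟨a, by simp, fun i hi => ?_⟩
        rcases Finset.mem_cons.mp hi with rfl | hi
        exacts [dvd_rfl, h.trans (hjd i hi)]
      · refine ⟨j, Finset.mem_cons.mpr (Or.inr hj), fun i hi => ?_⟩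
        rcases Finset.mem_cons.mp hi with rfl | hi
        exacts [h, hjd i hi]
  choose r hr using fun i => hj i (Finset.mem_univ i)
  obtain ⟨⟨s, hs⟩, hsr⟩ := IsLocalization.exist_integer_multiples_of_finite P.primeCompl r
  choose b hb using hsr
  have hcb : ∀ i, s * c i = c j * b i := fun i => by
    apply IsLocalization.injective (Localization.AtPrime P) P.primeCompl_le_nonZeroDivisors
    rw [map_mul, map_mul, hb i, hr i, Algebra.smul_def]
    ring
  have hsum : ∑ i, b i • (x i : Fin n → K) = 0 := by
    have hd0 : algebraMap (integralClosure O K) K d ≠ 0 := IsFractionRing.to_map_ne_zero_of_mem_nonZeroDivisors hd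
    have hcj : algebraMap (integralClosure O K) K (c j) ≠ 0 := by
      intro h0
      have hcj0 : c j = 0 := (map_eq_zero_iff _ (IsFractionRing.injective (integralClosure O K) K)).mp h0
      have h1 := hcb i₀
      rw [hcj0, zero_mul, mul_eq_zero] at h1
      rcases h1 with h1 | h1
      · exact hs (h1 ▸ P.zero_mem)
      · have h2 := hc i₀
        rw [h1, map_zero, Algebra.smul_def] at h2
        exact hi₀ ((mul_eq_zero.mp h2.symm).resolve_left hd0)
    apply smul_right_injective (Fin n → K) hcj
    simp only [smul_zero]
    have h2 : ∑ i, (algebraMap (integralClosure O K) K (s * c i)) • (x i : Fin n → K) = 0 := by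
      simp only [map_mul, hc, Algebra.smul_def d, mul_smul, ← Finset.smul_sum, hg, smul_zero]
    rw [Finset.smul_sum]
    refine Eq.trans (Finset.sum_congr rfl fun i _ => ?_) h2
    rw [hcb i, map_mul, mul_smul, IsScalarTower.algebraMap_smul]
    rfl
  have hlin : ∑ i, Ideal.Quotient.mk P (b i) • v i = 0 := by
    simp only [← hx]
    show ∑ i, (b i • Submodule.Quotient.mk (x i) : N ⧸ (P • ⊤ : Submodule (integralClosure O K) N)) = 0
    simp only [← Submodule.Quotient.mk_smul]
    refine (map_sum (P • ⊤ : Submodule (integralClosure O K) N).mkQ (fun i => b i • x i) _).symm.trans ?_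
    rw [show ∑ i, b i • x i = 0 from Subtype.ext (by simpa using hsum)]
    exact map_zero _
  have := Fintype.linearIndependent_iff.mp hv _ hlin j
  rw [Ideal.Quotient.eq_zero_iff_mem] at this
  refine hs (?_ : s ∈ P)
  have hbj : b j = s := by
    rcases eq_or_ne (c j) 0 with h0 | h0
    · exfalso
      have h1 := hcb i₀
      rw [h0, zero_mul, mul_eq_zero] at h1
      rcases h1 with h1 | h1
      · exact hs (h1 ▸ P.zero_mem)
      · have h2 := hc i₀
        rw [h1, map_zero, Algebra.smul_def] at h2
        exact hi₀ ((mul_eq_zero.mp h2.symm).resolve_left (IsFractionRing.to_map_ne_zero_of_mem_nonZeroDivisors hd))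
    · exact mul_left_cancel₀ h0 ((hcb j).symm.trans (mul_comm _ _))
  exact hbj ▸ this

set_option maxHeartbeats 1000000 in
/-- The normalisation span of a lattice is generated by `n` elements of the lattice. -/
theorem exists_generators [IsAlgClosed (ResidueField O)] [Module.Finite O (integralClosure O K)]
    (hdim : ringKrullDim O = 1) (n : ℕ) (M : Submodule O (Fin n → K)) (hM : M.FG) :
    ∃ v : Fin n → M, Submodule.span (integralClosure O K) (Set.range fun i => (v i : Fin n → K)) =
      Submodule.span (integralClosure O K) (M : Set (Fin n → K)) := by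
  classical
  haveI := finite_maximalSpectrum (K := K) hdim
  set S := integralClosure O K with hS
  set N := Submodule.span S (M : Set (Fin n → K)) with hN
  haveI hNfin : Module.Finite S N := by
    obtain ⟨t, ht⟩ := hM
    refine Module.Finite.iff_fg.mpr ⟨t, le_antisymm (Submodule.span_mono (fun x hx => ht ▸ Submodule.subset_span hx)) ?_⟩
    rw [hN, ← ht, Submodule.span_span_of_tower]
  let ι : M →ₗ[O] N :=
    { toFun := fun x => ⟨x, Submodule.subset_span x.2⟩
      map_add' := fun _ _ => rfl
      map_smul' := fun _ _ => rfl }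
  let π : ∀ P : Ideal S, M →ₗ[O] N ⧸ (P • ⊤ : Submodule S N) := fun P =>
    ((P • ⊤ : Submodule S N).mkQ.restrictScalars O).comp ι
  have hπspan : ∀ P : Ideal S, Submodule.span S (Set.range (π P)) = ⊤ := by
    intro P
    have h1 : Submodule.span S (Set.range ι) = ⊤ := by
      apply Submodule.map_injective_of_injective (f := N.subtype) Subtype.val_injective
      rw [Submodule.map_span, Submodule.map_top, Submodule.range_subtype, ← Set.range_comp]
      conv_rhs => rw [hN]
      congr 1
      ext x
      exact ⟨fun ⟨m, hm⟩ => hm ▸ m.2, fun hx => ⟨⟨x, hx⟩, rfl⟩⟩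
    rw [show Set.range (π P) = (P • ⊤ : Submodule S N).mkQ '' Set.range ι from Set.range_comp (P • ⊤ : Submodule S N).mkQ ι,
      ← Submodule.map_span, h1, Submodule.map_top, Submodule.range_mkQ]
  have key : ∀ j ≤ n, ∃ v : Fin j → M, ∀ P : MaximalSpectrum S,
      Submodule.span (S ⧸ P.asIdeal) (Set.range fun i => π P.asIdeal (v i)) = ⊤ ∨
      j ≤ Module.finrank (S ⧸ P.asIdeal) (Submodule.span (S ⧸ P.asIdeal) (Set.range fun i => π P.asIdeal (v i))) := by
    intro j
    induction j with
    | zero => exact fun _ => ⟨Fin.elim0, fun P => Or.inr (Nat.zero_le _)⟩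
    | succ j ih =>
      intro hj
      obtain ⟨v, hv⟩ := ih (by omega)
      let bad := {P : MaximalSpectrum S //
        Submodule.span (S ⧸ P.asIdeal) (Set.range fun i => π P.asIdeal (v i)) ≠ ⊤}
      haveI : Finite bad := inferInstanceAs (Finite (Subtype _))
      let W : bad → Submodule O M := fun P => Submodule.comap (π P.1.asIdeal)
        ((Submodule.span (S ⧸ P.1.asIdeal) (Set.range fun i => π P.1.asIdeal (v i))).restrictScalars O)
      have hWle : ∀ P, maximalIdeal O • ⊤ ≤ W P := by
        intro P x hx
        refine (Submodule.smul_le.mpr fun a ha y _ => ?_ : maximalIdeal O • ⊤ ≤ W P) hx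
        haveI := P.1.isMaximal
        haveI hmax : (P.1.asIdeal.comap (algebraMap O S)).IsMaximal :=
          Ideal.isMaximal_comap_of_isIntegral_of_isMaximal _
        show π P.1.asIdeal (a • y) ∈ Submodule.span (S ⧸ P.1.asIdeal) _
        rw [map_smul]
        have h0 : a • π P.1.asIdeal y = 0 := by
          show a • Submodule.Quotient.mk (ι y) = 0
          rw [← Submodule.Quotient.mk_smul, Submodule.Quotient.mk_eq_zero, ← algebraMap_smul S a (ι y)]
          exact Submodule.smul_mem_smul (Ideal.mem_comap.mp ((IsLocalRing.eq_maximalIdeal hmax).ge ha)) trivial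
        rw [h0]
        exact zero_mem _
      have hWne : ∀ P, W P ≠ ⊤ := by
        intro P hP
        refine P.2 (top_le_iff.mp ?_)
        intro z _
        have hz : z ∈ Submodule.span S (Set.range (π P.1.asIdeal)) := (hπspan _).ge trivial
        induction hz using Submodule.span_induction with
        | mem z hz =>
          obtain ⟨m, rfl⟩ := hz
          exact (show m ∈ W P from hP ▸ Submodule.mem_top)
        | zero => exact zero_mem _
        | add a b _ _ ha hb => exact add_mem (ha trivial) (hb trivial)
        | smul c a _ ha =>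
          exact Submodule.smul_mem _ (Ideal.Quotient.mk P.1.asIdeal c) (ha trivial)
      obtain ⟨w, hw⟩ := exists_avoid W hWle hWne
      refine ⟨Fin.cons w v, fun P => ?_⟩
      letI : Field (S ⧸ P.asIdeal) := Ideal.Quotient.field _
      haveI : Module.Finite (S ⧸ P.asIdeal) (N ⧸ (P.asIdeal • ⊤ : Submodule S N)) :=
        Module.Finite.of_restrictScalars_finite S _ _
      have hmono : Submodule.span (S ⧸ P.asIdeal) (Set.range fun i => π P.asIdeal (v i)) ≤
          Submodule.span (S ⧸ P.asIdeal) (Set.range fun i => π P.asIdeal ((Fin.cons w v : Fin (j + 1) → M) i)) :=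
        Submodule.span_mono (by rintro _ ⟨i, rfl⟩; exact ⟨i.succ, by simp⟩)
      by_cases htop : Submodule.span (S ⧸ P.asIdeal) (Set.range fun i => π P.asIdeal (v i)) = ⊤
      · exact Or.inl (top_le_iff.mp (htop.ge.trans hmono))
      · refine Or.inr ?_
        have hlt := Submodule.finrank_lt_finrank_of_lt (lt_of_le_not_ge hmono fun hle => hw ⟨P, htop⟩ (hle (Submodule.subset_span ⟨0, by simp⟩)))
        have := (hv P).resolve_left htop
        omega
  obtain ⟨v, hv⟩ := key n le_rfl
  refine ⟨v, le_antisymm (Submodule.span_le.mpr ?_) ?_⟩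
  · rintro _ ⟨i, rfl⟩
    exact Submodule.subset_span (v i).2
  let N' : Submodule S N := Submodule.span S (Set.range fun i => ι (v i))
  suffices hN' : N' = ⊤ by
    intro x hx
    have h : (⟨x, hx⟩ : N) ∈ N' := hN' ▸ Submodule.mem_top
    have h1 : x ∈ Submodule.map N.subtype N' := ⟨_, h, rfl⟩
    rw [Submodule.map_span, ← Set.range_comp] at h1
    exact h1
  by_contra hne
  haveI : Nontrivial (N ⧸ N') := Submodule.Quotient.nontrivial_iff.mpr hne
  obtain ⟨P, hPm, hP⟩ := Ideal.exists_le_maximal (Module.annihilator S (N ⧸ N'))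
    (fun h => by
      rw [Module.annihilator_eq_top_iff] at h
      exact not_subsingleton (N ⧸ N') h)
  letI : Field (S ⧸ P) := Ideal.Quotient.field _
  haveI : Module.Finite (S ⧸ P) (N ⧸ (P • ⊤ : Submodule S N)) := Module.Finite.of_restrictScalars_finite S _ _
  have htop : Submodule.span (S ⧸ P) (Set.range fun i => π P (v i)) = ⊤ :=
    (hv ⟨P, hPm⟩).elim id fun h => Submodule.eq_top_of_finrank_eq
      (le_antisymm (Submodule.finrank_le _) ((finrank_quotient_le hdim n N P).trans h))
  have hle : (⊤ : Submodule S (N ⧸ N')) ≤ P • ⊤ := by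
    intro z _
    obtain ⟨z, rfl⟩ := Submodule.Quotient.mk_surjective _ z
    have hz : (Submodule.Quotient.mk z : N ⧸ (P • ⊤ : Submodule S N)) ∈ Submodule.map (P • ⊤ : Submodule S N).mkQ N' := by
      have hz' : (Submodule.Quotient.mk z : N ⧸ (P • ⊤ : Submodule S N)) ∈
          Submodule.span (S ⧸ P) (Set.range fun i => π P (v i)) := htop ▸ Submodule.mem_top
      generalize (Submodule.Quotient.mk z : N ⧸ (P • ⊤ : Submodule S N)) = w at hz' ⊢
      induction hz' using Submodule.span_induction with
      | mem y hy =>
        obtain ⟨i, rfl⟩ := hy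
        exact ⟨ι (v i), Submodule.subset_span ⟨i, rfl⟩, rfl⟩
      | zero => exact zero_mem _
      | add a b _ _ ha hb => exact add_mem ha hb
      | smul c a _ ha =>
        obtain ⟨c, rfl⟩ := Ideal.Quotient.mk_surjective c
        exact Submodule.smul_mem _ c ha
    obtain ⟨y, hy, hyz⟩ := hz
    have h3 : N'.mkQ (y - z) ∈ Submodule.map N'.mkQ (P • ⊤) := ⟨_, (Submodule.Quotient.eq _).mp hyz, rfl⟩
    rw [Submodule.map_smul'', Submodule.map_top, Submodule.range_mkQ, map_sub, Submodule.mkQ_apply,
      Submodule.mkQ_apply, (Submodule.Quotient.mk_eq_zero N').mpr hy, zero_sub, neg_mem_iff] at h3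
    exact h3
  obtain ⟨r, hr, hr0⟩ := Submodule.exists_sub_one_mem_and_smul_eq_zero_of_fg_of_le_smul P ⊤ Module.Finite.fg_top hle
  have hrP : r ∈ P := hP (Module.mem_annihilator.mpr fun z => hr0 z trivial)
  exact hPm.ne_top ((Ideal.eq_top_iff_one P).mpr (by simpa using P.sub_mem hrP hr))

end Groth.Agent.TFCurvNormLib
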