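import Mathlib

/-! Dual lattices. -/

open Module
open scoped TensorProduct

namespace Groth.Agent.TFCurvNormLib

universe u

variable {O : Type u} [CommRing O] [IsDomain O] {K : Type u} [Field K] [Algebra O K] [IsFractionRing O K]
  {n : ℕ}

/-- The dual lattice. -/
def dualLat (L : Submodule O (Fin n → K)) : Submodule O (Fin n → K) where
  carrier := {x | ∀ y ∈ L, ∑ i, x i * y i ∈ (1 : Submodule O K)}
  add_mem' {a b} ha hb y hy := by
    simp only [Pi.add_apply, add_mul, Finset.sum_add_distrib]
    exact add_mem (ha y hy) (hb y hy)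
  zero_mem' y hy := by simp
  smul_mem' r a ha y hy := by
    simp only [Pi.smul_apply, smul_mul_assoc, ← Finset.smul_sum]
    exact Submodule.smul_mem _ r (ha y hy)

lemma single_mem_of_pi_le {L : Submodule O (Fin n → K)}
    (h : Submodule.pi Set.univ (fun _ : Fin n => (1 : Submodule O K)) ≤ L) (i : Fin n) :
    (Pi.single i (1 : K) : Fin n → K) ∈ L := h fun j _ => by
  rcases eq_or_ne j i with rfl | hne
  · rw [Pi.single_eq_same]
    exact Submodule.one_le.mp le_rfl
  · rw [Pi.single_eq_of_ne hne]
    exact zero_mem _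

lemma dualLat_le {L : Submodule O (Fin n → K)}
    (h : Submodule.pi Set.univ (fun _ : Fin n => (1 : Submodule O K)) ≤ L) :
    dualLat L ≤ Submodule.pi Set.univ (fun _ : Fin n => (1 : Submodule O K)) := by
  intro x hx i _
  have := hx _ (single_mem_of_pi_le h i)
  simpa [Pi.single_apply] using this

lemma colon_le_dualLat {S : Subalgebra O K} {L : Submodule O (Fin n → K)}
    (h : L ≤ Submodule.pi Set.univ (fun _ : Fin n => Subalgebra.toSubmodule S)) :
    Submodule.pi Set.univ (fun _ : Fin n =>
      (((1 : Submodule O K).colon (Subalgebra.toSubmodule S)) • (1 : Submodule O K))) ≤ dualLat L := by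
  intro x hx y hy
  refine sum_mem fun i _ => ?_
  have hyi := h hy i trivial
  refine Submodule.smul_induction_on (hx i trivial) (fun c hc z hz => ?_) (fun a b ha hb => ?_)
  · obtain ⟨a, rfl⟩ := Submodule.mem_one.mp hz
    rw [smul_mul_assoc, ← Algebra.smul_def, smul_comm]
    exact Submodule.smul_mem _ a (Submodule.mem_colon.mp hc _ hyi)
  · rw [add_mul]
    exact add_mem ha hb

/-- A functional on a lattice is a dot product. -/
lemma algebraMap_apply_eq {L : Submodule O (Fin n → K)}
    (h : Submodule.pi Set.univ (fun _ : Fin n => (1 : Submodule O K)) ≤ L) (φ : Dual O L) (y : L) :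
    algebraMap O K (φ y) =
      ∑ i, algebraMap O K (φ ⟨_, single_mem_of_pi_le h i⟩) * (y : Fin n → K) i := by
  classical
  obtain ⟨⟨c, hc⟩, hcy⟩ := IsLocalization.exist_integer_multiples_of_finite (nonZeroDivisors O)
    (y : Fin n → K)
  choose a ha using hcy
  have hsum : c • y = ∑ j, a j • (⟨Pi.single j 1, single_mem_of_pi_le h j⟩ : L) := by
    apply Subtype.ext
    funext i
    simp only [SetLike.val_smul, AddSubmonoidClass.coe_finsetSum, Finset.sum_apply, Pi.smul_apply]
    rw [Finset.sum_eq_single i (fun j _ h => by rw [Pi.single_eq_of_ne h.symm, smul_zero])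
      (by simp), Pi.single_eq_same]
    simpa [Algebra.smul_def] using (ha i).symm
  apply mul_left_cancel₀ (IsFractionRing.to_map_ne_zero_of_mem_nonZeroDivisors hc : algebraMap O K c ≠ 0)
  have h1 := congrArg (fun z => algebraMap O K (φ z)) hsum
  simp only [map_smul, map_sum, smul_eq_mul, map_mul] at h1
  rw [h1, Finset.mul_sum]
  refine Finset.sum_congr rfl fun j _ => ?_
  rw [ha j, Algebra.smul_def]
  ring

/-- The dual lattice is the dual module. -/
noncomputable def dualEquiv {L : Submodule O (Fin n → K)}
    (h : Submodule.pi Set.univ (fun _ : Fin n => (1 : Submodule O K)) ≤ L) : dualLat L ≃ₗ[O] Dual O L :=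
  (LinearEquiv.ofBijective (M := Dual O L) (M₂ := dualLat L)
    { toFun := fun φ => ⟨fun i => algebraMap O K (φ ⟨_, single_mem_of_pi_le h i⟩), fun y hy =>
        Submodule.mem_one.mpr ⟨φ ⟨y, hy⟩, algebraMap_apply_eq h φ ⟨y, hy⟩⟩⟩
      map_add' := fun φ ψ => Subtype.ext (funext fun i => map_add _ _ _)
      map_smul' := fun r φ => Subtype.ext (funext fun i => by
        simp [Algebra.smul_def]) }
    ⟨fun φ ψ hφψ => LinearMap.ext fun y => IsFractionRing.injective O K (by
        rw [algebraMap_apply_eq h φ y, algebraMap_apply_eq h ψ y]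
        have h2 := congrArg Subtype.val hφψ
        exact Finset.sum_congr rfl fun i _ => congrArg (· * (y : Fin n → K) i) (congrFun h2 i)),
      fun x => by
        let j : O →ₗ[O] K := Algebra.linearMap O K
        have hj : Function.Injective j := IsFractionRing.injective O K
        let g : L →ₗ[O] K := ∑ i, (LinearMap.mulLeft O (x.1 i)) ∘ₗ (LinearMap.proj i) ∘ₗ L.subtype
        have hg : ∀ y : L, g y = ∑ i, x.1 i * (y : Fin n → K) i := fun y => by
          simp [g, LinearMap.sum_apply]
        have hgr : ∀ y, g y ∈ LinearMap.range j := fun y => by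
          rw [hg]; exact Submodule.mem_one.mp (x.2 y.1 y.2)
        refine ⟨(LinearEquiv.ofInjective j hj).symm.toLinearMap ∘ₗ g.codRestrict _ hgr, Subtype.ext (funext fun i => ?_)⟩
        have h1 := congrArg Subtype.val ((LinearEquiv.ofInjective j hj).apply_symm_apply
          ((g.codRestrict _ hgr) ⟨Pi.single i 1, single_mem_of_pi_le h i⟩))
        refine h1.trans ?_
        show g _ = _
        rw [hg]
        simp [Pi.single_apply]⟩).symm

theorem finrank_eq {L : Submodule O (Fin n → K)}
    (h : L ≤ Submodule.pi Set.univ (fun _ : Fin n => (1 : Submodule O K))) {d : O} (hd : d ≠ 0)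
    (hdL : ∀ i, d • (Pi.single i (1 : K) : Fin n → K) ∈ L) :
    Module.finrank K (K ⊗[O] L) = n := by
  classical
  let j : (Fin n → O) →ₗ[O] (Fin n → K) := LinearMap.pi fun i => Algebra.linearMap O K ∘ₗ LinearMap.proj i
  have hj : Function.Injective j := fun x y hxy => funext fun i => IsFractionRing.injective O K (congrFun hxy i)
  have hL : L ≤ LinearMap.range j := fun x hx => by
    choose a ha using fun i => Submodule.mem_one.mp (h hx i trivial)
    exact ⟨a, funext ha⟩
  let ι : L →ₗ[O] (Fin n → O) := (LinearEquiv.ofInjective j hj).symm.toLinearMap ∘ₗ Submodule.inclusion hL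
  have hι : ∀ x : L, j (ι x) = x.1 := fun x =>
    congrArg Subtype.val ((LinearEquiv.ofInjective j hj).apply_symm_apply _)
  haveI : Module.Flat O K := IsLocalization.flat K (nonZeroDivisors O)
  have hinj : Function.Injective (ι.baseChange K) :=
    Module.Flat.lTensor_preserves_injective_linearMap ι
      (fun x y hxy => Subtype.ext (by rw [← hι, ← hι, hxy]))
  have hsurj : Function.Surjective (ι.baseChange K) := by
    rw [← LinearMap.range_eq_top, ← top_le_iff, ← (Algebra.TensorProduct.basis K (Pi.basisFun O (Fin n))).span_eq,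
      Submodule.span_le]
    rintro _ ⟨i, rfl⟩
    have hd0 : algebraMap O K d ≠ 0 := fun h0 => hd ((map_eq_zero_iff _ (IsFractionRing.injective O K)).mp h0)
    refine ⟨(algebraMap O K d)⁻¹ ⊗ₜ ⟨_, hdL i⟩, ?_⟩
    have hd' : ι ⟨_, hdL i⟩ = d • (Pi.single i (1 : O) : Fin n → O) := hj (by
      rw [hι]
      funext k
      simp [j, Pi.single_apply, Algebra.smul_def, apply_ite (algebraMap O K)])
    rw [LinearMap.baseChange_tmul, hd', TensorProduct.tmul_smul, TensorProduct.smul_tmul', Algebra.smul_def,
      mul_inv_cancel₀ hd0, Algebra.TensorProduct.basis_apply, Pi.basisFun_apply]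
  rw [(LinearEquiv.ofBijective (ι.baseChange K) ⟨hinj, hsurj⟩).finrank_eq, Module.finrank_baseChange]
  simp

omit [IsDomain O] in
theorem exists_conductor_ne_zero [IsDomain O] (S : Subalgebra O K) [Module.Finite O S] :
    ∃ d : O, d ≠ 0 ∧ d ∈ (1 : Submodule O K).colon (Subalgebra.toSubmodule S) := by
  classical
  obtain ⟨t, ht⟩ := (Module.Finite.iff_fg.mp ‹Module.Finite O S› : (Subalgebra.toSubmodule S).FG)
  obtain ⟨⟨d, hd⟩, hdint⟩ := IsLocalization.exist_integer_multiples (nonZeroDivisors O) t id
  refine ⟨d, nonZeroDivisors.ne_zero hd, Submodule.mem_colon.mpr fun y hy => ?_⟩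
  have hy' : y ∈ Submodule.span O (t : Set K) := ht ▸ hy
  clear hy
  induction hy' using Submodule.span_induction with
  | mem z hz => exact Submodule.mem_one.mpr (hdint z hz)
  | zero => rw [smul_zero]; exact zero_mem _
  | add a b _ _ ha hb => rw [smul_add]; exact add_mem ha hb
  | smul r a _ ha => rw [smul_comm]; exact Submodule.smul_mem _ r ha

end Groth.Agent.TFCurvNormLib
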